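import Cfsg.Agent.Lib.TensorSquare17.Basic

/-!
An image of a space of pure tensors with a single point of rank one.
-/

set_option autoImplicit false
set_option linter.unusedSectionVars false

namespace Cfsg.Agent.Lib.TensorSquare17

open Matrix Cfsg.Agent.Lib Cfsg.Agent.Lib.TensorMax

variable {F : Type*} [Field F] {M : Subgroup (GL (Fin 3 × Fin 3) F)}
  (hN : tensorSL 3 3 F ≤ M) {τ : GL (Fin 3 × Fin 3) F} (hτ : τ ∈ M)
  (hτX : ∀ X, op τ X = -Xᵀ)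

include hN hτ hτX

/-- A single point of rank one gives a radical element. -/
theorem hasRad_one (hmax : ∀ k', 1 < k' → ¬ HasInter M k') {g : GL (Fin 3 × Fin 3) F} (hg : g ∈ M)
    {v x u : Fin 3 → F} (hv : v ≠ 0) (hx : x ≠ 0) (hu : u ≠ 0) (hW : ¬ PureW (wsub g v))
    (hP : vecMulVec x u ∈ wsub g v) : HasRad M := by
  classical
  by_contra hno
  set W := wsub g v with hWdef
  set P := vecMulVec x u with hPdef
  have hP0 : P ≠ 0 := fun e => hx (pl_injective hu (e.trans (map_zero (pl 3 u)).symm))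
  have hPm : ∀ φ, P *ᵥ φ = (u ⬝ᵥ φ) • x := fun φ => pure_mulVec x u φ
  have hdim : ∀ A B : Matrix (Fin 3) (Fin 3) F, A ≠ 0 → B ∉ F ∙ A →
      Module.finrank F ↥((F ∙ A) ⊔ (F ∙ B)) = 2 := fun A B hA hB => by
    rw [finrank_sup_line _ hB, finrank_span_singleton hA]
  have hle : ∀ A ∈ W, ∀ B ∈ W, (F ∙ A) ⊔ (F ∙ B) ≤ W := fun A hA B hB =>
    sup_le (by rwa [Submodule.span_singleton_le_iff_mem]) (by rwa [Submodule.span_singleton_le_iff_mem])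
  have pairR : ∀ A ∈ W, ∀ B ∈ W, A ≠ 0 → B ∉ F ∙ A → ∀ φ : Fin 3 → F, φ ≠ 0 →
      A *ᵥ φ = 0 → B *ᵥ φ = 0 → False := by
    intro A hA B hB hA0 hBA φ hφ hAφ hBφ
    refine hno (hasRad_of_kill hN hτ hτX hmax hg hv hφ hW (hle A hA B hB) (hdim A B hA0 hBA).ge
      (by rw [hdim A B hA0 hBA]; omega) fun X hX => ?_)
    obtain ⟨_, hY, _, hZ, rfl⟩ := Submodule.mem_sup.1 hX
    obtain ⟨r, rfl⟩ := Submodule.mem_span_singleton.1 hY
    obtain ⟨r', rfl⟩ := Submodule.mem_span_singleton.1 hZ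
    rw [add_mulVec, smul_mulVec, smul_mulVec, hAφ, hBφ, smul_zero, smul_zero, add_zero]
  have pairL : ∀ A ∈ W, ∀ B ∈ W, A ≠ 0 → B ∉ F ∙ A → ∀ ξ : Fin 3 → F, ξ ≠ 0 →
      ξ ᵥ* A = 0 → ξ ᵥ* B = 0 → False := by
    intro A hA B hB hA0 hBA ξ hξ hAξ hBξ
    refine hno (hasRad_of_killL hN hτ hτX hmax hg hv hξ hW (hle A hA B hB) (hdim A B hA0 hBA).ge
      (by rw [hdim A B hA0 hBA]; omega) fun X hX => ?_)
    obtain ⟨_, hY, _, hZ, rfl⟩ := Submodule.mem_sup.1 hX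
    obtain ⟨r, rfl⟩ := Submodule.mem_span_singleton.1 hY
    obtain ⟨r', rfl⟩ := Submodule.mem_span_singleton.1 hZ
    rw [vecMul_add, vecMul_smul, vecMul_smul, hAξ, hBξ, smul_zero, smul_zero, add_zero]
  -- an invertible member
  obtain ⟨Q, hQW, hQP, hQ⟩ : ∃ Q ∈ W, Q ∉ F ∙ P ∧ ∀ φ, Q *ᵥ φ = 0 → φ = 0 := by
    obtain ⟨X, hX, hXP⟩ : ∃ X ∈ W, X ∉ F ∙ P := by
      by_contra hc
      push Not at hc
      have := Submodule.finrank_mono (show W ≤ F ∙ P from hc)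
      rw [hWdef, finrank_wsub g hv, finrank_span_singleton hP0] at this
      omega
    by_cases hinj : ∀ φ, X *ᵥ φ = 0 → φ = 0
    · exact ⟨X, hX, hXP, hinj⟩
    push Not at hinj
    obtain ⟨φ₀, hφ₀, hφ₀0⟩ := hinj
    obtain ⟨ξ, hξ0, hξ⟩ := exists_vecMul_eq_zero_iff.2
      (exists_mulVec_eq_zero_iff.1 ⟨φ₀, hφ₀0, hφ₀⟩)
    refine ⟨X + P, W.add_mem hX hP, fun h => hXP ?_, fun φ h => ?_⟩
    · simpa using Submodule.sub_mem _ h (Submodule.mem_span_singleton_self P)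
    by_contra hφ
    rw [add_mulVec, hPm] at h
    by_cases hs : u ⬝ᵥ φ = 0
    · rw [hs, zero_smul, add_zero] at h
      exact pairR P hP X hX hP0 hXP φ hφ (by rw [hPm, hs, zero_smul]) h
    have h1 := congrArg (fun z => ξ ⬝ᵥ z) h
    simp only [dotProduct_add, dotProduct_mulVec, hξ, zero_dotProduct, zero_add, dotProduct_smul,
      dotProduct_zero, smul_eq_mul, mul_eq_zero, hs, false_or] at h1
    exact pairL P hP X hX hP0 hXP ξ hξ0 (by rw [hPdef, vecMul_pure, h1, zero_smul]) hξ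
  have hQ0 : Q ≠ 0 := fun e => hQP (e ▸ Submodule.zero_mem _)
  have hQs : ∀ z, ∃ φ, Q *ᵥ φ = z := LinearMap.injective_iff_surjective.1
    ((injective_iff_map_eq_zero Q.mulVecLin).2 hQ)
  have hQi : ∀ {φ φ' : Fin 3 → F}, Q *ᵥ φ = Q *ᵥ φ' → φ = φ' := fun h =>
    sub_eq_zero.1 (hQ _ (by rw [mulVec_sub, h, sub_self]))
  set T := (F ∙ P) ⊔ (F ∙ Q) with hTdef
  have hTdim : Module.finrank F T = 2 := hdim P Q hP0 hQP
  have hTW : T ≤ W := hle P hP Q hQW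
  obtain ⟨X₀, hX₀, hX₀T⟩ : ∃ X ∈ W, X ∉ T := by
    by_contra hc
    push Not at hc
    have := Submodule.finrank_mono (show W ≤ T from hc)
    rw [hWdef, finrank_wsub g hv, hTdim] at this
    omega
  have hspan : T ⊔ F ∙ X₀ = W := Submodule.eq_of_le_of_finrank_eq
    (sup_le hTW (by rwa [Submodule.span_singleton_le_iff_mem]))
    (by rw [finrank_sup_line T hX₀T, hTdim, hWdef, finrank_wsub g hv])
  have hPT : P ∈ T := Submodule.mem_sup_left (Submodule.mem_span_singleton_self P)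
  have hQT : Q ∈ T := Submodule.mem_sup_right (Submodule.mem_span_singleton_self Q)
  -- the elements fixing `P` and `Q` fix the image
  have inv : ∀ φ ψ : Fin 3 → F, u ⬝ᵥ φ = 0 → ψ ⬝ᵥ x = 0 → ψ ⬝ᵥ Q *ᵥ φ = 0 → ∀ X ∈ W,
      vecMulVec (-(Q *ᵥ φ)) (ψ ᵥ* X) +
        vecMulVec (X *ᵥ φ + (ψ ⬝ᵥ X *ᵥ φ) • -(Q *ᵥ φ)) (ψ ᵥ* Q) ∈ W := by
    intro φ ψ hφ hψx hψQ X hX
    generalize hadef : -(Q *ᵥ φ) = a
    have hψa : ψ ⬝ᵥ a = 0 := by rw [← hadef, dotProduct_neg, hψQ, neg_zero]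
    have hw : (ψ ᵥ* Q) ⬝ᵥ φ = 0 := by rw [← dotProduct_mulVec, hψQ]
    obtain ⟨t₁, ht₁, ht₁X⟩ := exists_TA (b := 3) a ψ hψa
    obtain ⟨t₂, ht₂, ht₂X⟩ := exists_TB (a := 3) φ (ψ ᵥ* Q) hw
    have hs : ∀ Y, op (t₂ * t₁) Y = Y +
        (vecMulVec a (ψ ᵥ* Y) + vecMulVec (Y *ᵥ φ + (ψ ⬝ᵥ Y *ᵥ φ) • a) (ψ ᵥ* Q)) := fun Y => by
      rw [op_mul, ht₁X, ht₂X, add_mulVec, pure_mulVec, ← dotProduct_mulVec, add_assoc]
    have hfP : op (t₂ * t₁) P = P := by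
      rw [hs, hPdef, vecMul_pure, pure_mulVec, hψx, hφ, zero_smul, zero_smul, dotProduct_zero,
        zero_smul, pure_zero_right, add_zero, pure_zero_left, add_zero, add_zero]
    have hfQ : op (t₂ * t₁) Q = Q := by
      rw [hs, hψQ, zero_smul, add_zero, ← hadef, pure_neg_left, neg_add_cancel, add_zero]
    by_contra hn
    have h := hasInter_of_fix hg (M.mul_mem (hN ht₂) (hN ht₁)) hv hTW hTdim.ge (fun Y hY => by
      obtain ⟨_, hA, _, hB, rfl⟩ := Submodule.mem_sup.1 hY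
      obtain ⟨r, rfl⟩ := Submodule.mem_span_singleton.1 hA
      obtain ⟨r', rfl⟩ := Submodule.mem_span_singleton.1 hB
      rw [map_add, map_smul, map_smul, hfP, hfQ]) ⟨X, hX, by
        rw [hs]
        exact fun h => hn ((W.add_mem_iff_right hX).1 h)⟩
    exact hmax 2 (by omega) (hTdim ▸ h)
  have hwne : ∀ ψ : Fin 3 → F, ψ ≠ 0 → ψ ᵥ* Q ≠ 0 := fun ψ hψ h => hψ (dotProduct_eq _ _ fun z => by
    obtain ⟨c, hc⟩ := hQs z
    rw [← hc, dotProduct_mulVec, h, zero_dotProduct, zero_dotProduct])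
  obtain ⟨φ₀, hφ₀⟩ := hQs x
  have hφ₀0 : φ₀ ≠ 0 := fun e => hx (by rw [← hφ₀, e, mulVec_zero])
  by_cases hs : u ⬝ᵥ φ₀ = 0
  · -- `P` is nilpotent relative to `Q`
    obtain ⟨φ, hφdef⟩ : ∃ φ, φ = -φ₀ := ⟨_, rfl⟩
    have hQφ : Q *ᵥ φ = -x := by rw [hφdef, mulVec_neg, hφ₀]
    have huφ : u ⬝ᵥ φ = 0 := by rw [hφdef, dotProduct_neg, hs, neg_zero]
    obtain ⟨ψ, hψ, hψ0⟩ := exists_perp_ne ![x] (show 1 < 3 by omega)
    have hψx : ψ ⬝ᵥ x = 0 := (dotProduct_comm _ _).trans (hψ 0)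
    set D := vecMulVec x (ψ ᵥ* X₀) + vecMulVec (X₀ *ᵥ φ + (ψ ⬝ᵥ X₀ *ᵥ φ) • x) (ψ ᵥ* Q) with hDdef
    have hD : D ∈ W := by
      have h := inv φ ψ huφ hψx (by rw [hQφ, dotProduct_neg, hψx, neg_zero]) X₀ hX₀
      rwa [hQφ, neg_neg] at h
    obtain ⟨ξ, hξ, hξ0⟩ := exists_perp_ne ![x, X₀ *ᵥ φ] (show 2 < 3 by omega)
    have hξx : ξ ⬝ᵥ x = 0 := (dotProduct_comm _ _).trans (hξ 0)
    have hξX : ξ ⬝ᵥ X₀ *ᵥ φ = 0 := (dotProduct_comm _ _).trans (hξ 1)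
    have hDP : D ∈ F ∙ P := by
      by_contra h
      refine pairL P hP D hD hP0 h ξ hξ0 (by rw [hPdef, vecMul_pure, hξx, zero_smul]) ?_
      rw [hDdef, vecMul_add, vecMul_pure, vecMul_pure, hξx, dotProduct_add, hξX, dotProduct_smul, hξx,
        smul_zero, add_zero, zero_smul, zero_smul, add_zero]
    obtain ⟨r, hr⟩ := Submodule.mem_span_singleton.1 hDP
    obtain ⟨η, hη⟩ := exists_dot_one (hwne ψ hψ0)
    have h := congrArg (fun Z => Z *ᵥ η) hr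
    simp only [hDdef, add_mulVec, smul_mulVec, pure_mulVec, hPm, hη, one_smul] at h
    obtain ⟨μ, hμ⟩ : ∃ μ : F, X₀ *ᵥ φ = μ • x :=
      ⟨r * (u ⬝ᵥ η) - (ψ ᵥ* X₀) ⬝ᵥ η - ψ ⬝ᵥ X₀ *ᵥ φ, by linear_combination (norm := module) -h⟩
    refine pairR P hP (X₀ + μ • Q) (W.add_mem hX₀ (W.smul_mem μ hQW)) hP0 (fun h => hX₀T ?_) φ
      (by rw [hφdef, neg_ne_zero]; exact hφ₀0) (by rw [hPm, huφ, zero_smul])
      (by rw [add_mulVec, smul_mulVec, hμ, hQφ, smul_neg, add_neg_cancel])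
    have := T.sub_mem ((Submodule.span_singleton_le_iff_mem _ _).2 hPT h) (T.smul_mem μ hQT)
    simpa using this
  -- the other case
  obtain ⟨φ₁, hφ₁⟩ := hQs (X₀ *ᵥ φ₀)
  set ρ := (u ⬝ᵥ φ₁) / (u ⬝ᵥ φ₀) with hρ
  obtain ⟨φc, hφc⟩ : ∃ φc, φc = φ₁ - ρ • φ₀ := ⟨_, rfl⟩
  set X₁ := X₀ - ρ • Q with hX₁def
  have hX₁ : X₁ ∈ W := W.sub_mem hX₀ (W.smul_mem ρ hQW)
  have hX₁T : X₁ ∉ T := fun h => hX₀T (by simpa [hX₁def] using T.add_mem h (T.smul_mem ρ hQT))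
  have hc : X₁ *ᵥ φ₀ = Q *ᵥ φc := by
    rw [hX₁def, hφc, sub_mulVec, smul_mulVec, mulVec_sub, mulVec_smul, hφ₁]
  have huc : u ⬝ᵥ φc = 0 := by
    rw [hφc, dotProduct_sub, dotProduct_smul, smul_eq_mul, hρ, div_mul_cancel₀ _ hs, sub_self]
  by_cases hc0 : φc = 0
  · set B := Q - (u ⬝ᵥ φ₀)⁻¹ • P with hBdef
    refine pairR B (W.sub_mem hQW (W.smul_mem _ hP)) X₁ hX₁ (fun h => hQP ?_) (fun h => hX₁T ?_) φ₀ hφ₀0
      (by rw [hBdef, sub_mulVec, smul_mulVec, hPm, hφ₀, smul_smul, inv_mul_cancel₀ hs, one_smul, sub_self])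
      (by rw [hc, hc0, mulVec_zero])
    · rw [sub_eq_zero.1 h]
      exact Submodule.smul_mem _ _ (Submodule.mem_span_singleton_self P)
    · obtain ⟨r, hr⟩ := Submodule.mem_span_singleton.1 h
      rw [← hr]
      exact T.smul_mem r (T.sub_mem hQT (T.smul_mem _ hPT))
  obtain ⟨φ, hφu, hφn⟩ := exists_perp ![u] (F ∙ φc) (by rw [finrank_span_singleton hc0]; omega)
  have huφ : u ⬝ᵥ φ = 0 := hφu 0
  have hsep : Q *ᵥ φc ∉ Submodule.span F ({x, Q *ᵥ φ} : Set (Fin 3 → F)) := by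
    intro h
    obtain ⟨r, r', hrr⟩ := Submodule.mem_span_pair.1 h
    have h1 : r • φ₀ + r' • φ = φc := hQi (by rw [mulVec_add, mulVec_smul, mulVec_smul, hφ₀, hrr])
    have h2 := congrArg (u ⬝ᵥ ·) h1
    simp only [dotProduct_add, dotProduct_smul, huφ, huc, mul_zero, smul_zero, add_zero, smul_eq_mul,
      mul_eq_zero, hs, or_false] at h2
    rw [h2, zero_smul, zero_add] at h1
    have hr' : r' ≠ 0 := fun e => hc0 (by rw [← h1, e, zero_smul])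
    exact hφn (Submodule.mem_span_singleton.2 ⟨r'⁻¹, by rw [← h1, smul_smul, inv_mul_cancel₀ hr', one_smul]⟩)
  obtain ⟨ψ, hψT, hψc⟩ := exists_sep hsep
  have hψx : ψ ⬝ᵥ x = 0 := (dotProduct_comm _ _).trans (hψT x (Submodule.subset_span (by simp)))
  have hψQ : ψ ⬝ᵥ Q *ᵥ φ = 0 :=
    (dotProduct_comm _ _).trans (hψT _ (Submodule.subset_span (by simp)))
  rw [dotProduct_comm] at hψc
  have hD := inv φ ψ huφ hψx hψQ X₁ hX₁
  set D := vecMulVec (-(Q *ᵥ φ)) (ψ ᵥ* X₁) +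
    vecMulVec (X₁ *ᵥ φ + (ψ ⬝ᵥ X₁ *ᵥ φ) • -(Q *ᵥ φ)) (ψ ᵥ* Q) with hDdef
  have hDφ : D *ᵥ φ₀ = -(Q *ᵥ φ) := by
    rw [hDdef, add_mulVec, pure_mulVec, pure_mulVec, ← dotProduct_mulVec, ← dotProduct_mulVec, hc, hψc,
      hφ₀, hψx, zero_smul, add_zero, one_smul]
  have hspan₁ : D ∈ T ⊔ F ∙ X₁ := by
    refine (show W ≤ T ⊔ F ∙ X₁ from ?_) hD
    rw [← hspan]
    refine sup_le le_sup_left ((Submodule.span_singleton_le_iff_mem _ _).2 ?_)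
    have := (T ⊔ F ∙ X₁).add_mem (Submodule.mem_sup_right (Submodule.mem_span_singleton_self X₁))
      (Submodule.mem_sup_left (T.smul_mem ρ hQT))
    simpa [hX₁def] using this
  obtain ⟨Y, hY, Z, hZ, hYZ⟩ := Submodule.mem_sup.1 hspan₁
  obtain ⟨_, hA, _, hB, rfl⟩ := Submodule.mem_sup.1 hY
  obtain ⟨α, rfl⟩ := Submodule.mem_span_singleton.1 hA
  obtain ⟨β, rfl⟩ := Submodule.mem_span_singleton.1 hB
  obtain ⟨γ, rfl⟩ := Submodule.mem_span_singleton.1 hZ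
  rw [← hYZ, add_mulVec, add_mulVec, smul_mulVec, smul_mulVec, smul_mulVec, hPm, hφ₀, hc] at hDφ
  have h1 : Q *ᵥ ((α * (u ⬝ᵥ φ₀) + β) • φ₀ + γ • φc + φ) = 0 := by
    rw [mulVec_add, mulVec_add, mulVec_smul, mulVec_smul, hφ₀]
    linear_combination (norm := module) hDφ
  have h2 := hQ _ h1
  have h3 := congrArg (u ⬝ᵥ ·) h2
  simp only [dotProduct_add, dotProduct_smul, huφ, huc, mul_zero, smul_zero, add_zero, smul_eq_mul,
    dotProduct_zero, mul_eq_zero, hs, or_false] at h3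
  rw [h3, zero_smul, zero_add] at h2
  refine hφn (Submodule.mem_span_singleton.2 ⟨-γ, ?_⟩)
  rw [neg_smul, neg_eq_iff_add_eq_zero]
  exact h2

end Cfsg.Agent.Lib.TensorSquare17
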