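import Cfsg.Agent.Lib.TensorSquare17.Basic

/-!
An image of a space of pure tensors meeting such a space in a hyperplane.
-/

set_option autoImplicit false
set_option linter.unusedSectionVars false

namespace Cfsg.Agent.Lib.TensorSquare17

open Matrix Cfsg.Agent.Lib Cfsg.Agent.Lib.TensorMax

variable {F : Type*} [Field F] {a b : ℕ} {M : Subgroup (GL (Fin a × Fin b) F)}

/-- The last case: the image meets a pure space in a hyperplane. -/
theorem hasRad_hyperplane (hN : tensorSL a b F ≤ M) (ha : 2 ≤ a) (hb : 3 ≤ b) {g : GL (Fin a × Fin b) F} (hg : g ∈ M)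
    {v u : Fin b → F} (hv : v ≠ 0) (hu : u ≠ 0)
    (hk : Module.finrank F ↥(wsub g v ⊓ LinearMap.range (pl a u)) + 1 = a)
    {w : Matrix (Fin a) (Fin b) F} (hw : w ∈ wsub g v) (hwu : w ∉ LinearMap.range (pl a u))
    (hinj : ∀ φ : Fin b → F, u ⬝ᵥ φ = 0 → w *ᵥ φ = 0 → φ = 0)
    (hout : ∀ z : Fin a → F, ∃ φ, w *ᵥ φ ∉ F ∙ z ∧ u ⬝ᵥ φ = 0) : HasRad M := by
  classical
  set W := wsub g v with hWdef
  set T := W ⊓ LinearMap.range (pl a u) with hTdef
  have hTW : T ≤ W := inf_le_left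
  have hWeq : T ⊔ F ∙ w = W := by
    refine Submodule.eq_of_le_of_finrank_eq (sup_le hTW (by rwa [Submodule.span_singleton_le_iff_mem])) ?_
    rw [finrank_sup_line T fun h => hwu h.2, hk, hWdef, finrank_wsub g hv]
  let SA : Submodule F (Fin a → F) := W.comap (pl a u)
  have hSA : Module.finrank F SA = Module.finrank F T := by
    rw [(Submodule.equivMapOfInjective _ (pl_injective hu) SA).finrank_eq, Submodule.map_comap_eq, hTdef,
      inf_comm]
  let T1 : Submodule F (Fin a → F) := T.comap ((op g).comp (pl a v))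
  have hT1 : Module.finrank F T1 = Module.finrank F T := by
    have hi : Function.Injective ((op g).comp (pl a v)) := fun x y h => pl_injective hv (op_injective g h)
    rw [(Submodule.equivMapOfInjective _ hi T1).finrank_eq, Submodule.map_comap_eq,
      inf_eq_right.2 (show T ≤ LinearMap.range ((op g).comp (pl a v)) from hTW)]
  obtain ⟨x₁, hx₁⟩ : ∃ x₁, x₁ ∉ SA := by
    by_contra hc
    push Not at hc
    have h := Submodule.finrank_mono (show (⊤ : Submodule F (Fin a → F)) ≤ SA from fun x _ => hc x)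
    rw [finrank_top, Module.finrank_fin_fun, hSA] at h
    omega
  have htop : SA ⊔ F ∙ x₁ = ⊤ := Submodule.eq_top_of_finrank_eq (by
    rw [finrank_sup_line SA hx₁, hSA, hk, Module.finrank_fin_fun])
  -- the covector
  obtain ⟨φ₀, hφ₀v, hφ₀T, hφ₀0⟩ : ∃ φ₀ : Fin b → F, v ⬝ᵥ φ₀ = 0 ∧
      op g⁻¹ (vecMulVec x₁ u) *ᵥ φ₀ ∈ T1 ∧ φ₀ ≠ 0 := by
    let L : (Fin b → F) →ₗ[F] F × ((Fin a → F) ⧸ T1) :=
      { toFun := fun φ => (v ⬝ᵥ φ, Submodule.Quotient.mk (op g⁻¹ (vecMulVec x₁ u) *ᵥ φ))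
        map_add' := fun p q => by simp [dotProduct_add, mulVec_add]
        map_smul' := fun t p => by simp [dotProduct_smul, mulVec_smul] }
    obtain ⟨φ, hφ, hφ0⟩ := exists_ker_notMem L ⊥ (by
      rw [Module.finrank_prod, Module.finrank_self, finrank_bot, Module.finrank_fin_fun]
      have := Submodule.finrank_quotient_add_finrank T1
      rw [Module.finrank_fin_fun] at this
      omega)
    exact ⟨φ, congrArg Prod.fst hφ, (Submodule.Quotient.mk_eq_zero _).1 (congrArg Prod.snd hφ),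
      by simpa using hφ0⟩
  obtain ⟨t, ht, htX⟩ := exists_TB (a := a) φ₀ v hφ₀v
  set y := g * t * g⁻¹ with hydef
  have hyM : y ∈ M := M.mul_mem (M.mul_mem hg (hN ht)) (M.inv_mem hg)
  let A : Matrix (Fin a) (Fin b) F →ₗ[F] Matrix (Fin a) (Fin b) F :=
    op g ∘ₗ pl a v ∘ₗ contr a φ₀ ∘ₗ op g⁻¹
  have hA : ∀ X, A X = op g (vecMulVec (op g⁻¹ X *ᵥ φ₀) v) := fun X => rfl
  have hyA : ∀ X, op y X = X + A X := fun X => by
    rw [hydef, op_mul, op_mul, htX, map_add, op_op_inv, hA]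
  have hAW : ∀ X, A X ∈ W := fun X => mem_wsub.2 ⟨_, rfl⟩
  have hAonW : ∀ Z ∈ W, A Z = 0 := by
    intro Z hZ
    obtain ⟨x, rfl⟩ := mem_wsub.1 hZ
    rw [hA, op_inv_op, pure_mulVec, hφ₀v, zero_smul, pure_zero_left, map_zero]
  have hAA : ∀ X, A (A X) = 0 := fun X => hAonW _ (hAW X)
  have hAsur : ∀ Z ∈ W, ∃ X, A X = Z := by
    intro Z hZ
    obtain ⟨x, rfl⟩ := mem_wsub.1 hZ
    obtain ⟨c, hc⟩ := exists_dot_one hφ₀0
    rw [dotProduct_comm] at hc
    exact ⟨op g (vecMulVec x c), by rw [hA, op_inv_op, pure_mulVec, hc, one_smul]⟩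
  obtain ⟨φu, hφu⟩ := exists_dot_one hu
  let E : (Fin a → F) →ₗ[F] (Fin a → F) := contr a φu ∘ₗ A ∘ₗ pl a u
  have hAx₁ : A (vecMulVec x₁ u) ∈ T := hφ₀T
  have hTu : ∀ Z ∈ T, Z = vecMulVec (Z *ᵥ φu) u := by
    intro Z hZ
    obtain ⟨z, rfl⟩ := hZ.2
    rw [pl_apply, pure_mulVec, hφu, one_smul]
  have hdec : ∀ x : Fin a → F, ∃ s ∈ SA, ∃ r : F, x = s + r • x₁ := fun x => by
    obtain ⟨s, hs, z, hz, rfl⟩ := Submodule.mem_sup.1 (htop.symm ▸ Submodule.mem_top (x := x))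
    obtain ⟨r, rfl⟩ := Submodule.mem_span_singleton.1 hz
    exact ⟨s, hs, r, rfl⟩
  have hsplit : ∀ x, ∃ r : F, A (vecMulVec x u) = r • A (vecMulVec x₁ u) ∧
      E x = r • E x₁ := by
    intro x
    obtain ⟨s, hs, r, rfl⟩ := hdec x
    have h0 : A (vecMulVec s u) = 0 := hAonW _ hs
    refine ⟨r, by rw [pure_add_left, pure_smul_left, map_add, map_smul, h0, zero_add], ?_⟩
    show (A (vecMulVec (s + r • x₁) u)) *ᵥ φu = r • (A (vecMulVec x₁ u) *ᵥ φu)
    rw [pure_add_left, pure_smul_left, map_add, map_smul, h0, zero_add, smul_mulVec]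
  have hAE : ∀ x, A (vecMulVec x u) = vecMulVec (E x) u := by
    intro x
    obtain ⟨r, hr, hrE⟩ := hsplit x
    rw [hr, hrE, hTu _ hAx₁, pure_smul_left]
    rfl
  have hWψ : ∀ ψ : Fin b → F, u ⬝ᵥ ψ = 0 → ∀ Z ∈ W, ∃ s : F, Z *ᵥ ψ = s • (w *ᵥ ψ) := by
    intro ψ hψ Z hZ
    rw [← hWeq] at hZ
    obtain ⟨Z₀, hZ₀, Z₁, hZ₁, rfl⟩ := Submodule.mem_sup.1 hZ
    obtain ⟨s, rfl⟩ := Submodule.mem_span_singleton.1 hZ₁
    refine ⟨s, ?_⟩
    rw [add_mulVec, smul_mulVec, hTu Z₀ hZ₀, pure_mulVec, hψ, zero_smul, zero_add]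
  by_contra hno
  by_cases he : E x₁ = 0
  · -- `y` fixes the pure space
    have hAu : ∀ x, A (vecMulVec x u) = 0 := fun x => by
      obtain ⟨r, -, hrE⟩ := hsplit x
      rw [hAE, hrE, he, smul_zero, pure_zero_left]
    obtain ⟨φ, hφ, hφ0⟩ := exists_perp_ne ![u] (show 1 < b by omega)
    have hwφ : w *ᵥ φ ≠ 0 := fun e => hφ0 (hinj φ (hφ 0) e)
    have hR := rad_comm hN (u := u) (φ := φ) (hφ 0) hyM hyA hAA hAu
    obtain ⟨ψ, hψ⟩ : ∃ ψ : Fin b → F, ∀ X, (contr a φ ∘ₗ A) X = X *ᵥ ψ := by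
      by_contra hns
      exact hno ⟨u, _, hu, hR, hns⟩
    have hψ' : ∀ X, A X *ᵥ φ = X *ᵥ ψ := hψ
    by_cases hψ0 : ψ = 0
    · obtain ⟨X, hX⟩ := hAsur w hw
      have := hψ' X
      rw [hX, hψ0, mulVec_zero] at this
      exact hwφ this
    obtain ⟨c, hc⟩ := exists_dot_one hψ0
    rw [dotProduct_comm] at hc
    obtain ⟨x, hx⟩ : ∃ x : Fin a → F, x ∉ F ∙ (w *ᵥ φ) := by
      by_contra hc'
      push Not at hc'
      have h := Submodule.finrank_mono (show (⊤ : Submodule F (Fin a → F)) ≤ F ∙ (w *ᵥ φ) from fun x _ => hc' x)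
      rw [finrank_top, Module.finrank_fin_fun, finrank_span_singleton hwφ] at h
      omega
    obtain ⟨s, hs⟩ := hWψ φ (hφ 0) _ (hAW (vecMulVec x c))
    rw [hψ', pure_mulVec, hc, one_smul] at hs
    exact hx (Submodule.mem_span_singleton.2 ⟨s, hs.symm⟩)
  · -- `y` induces a transvection on the pure space
    obtain ⟨φ, hy₂', huφ⟩ := hout (E x₁)
    obtain ⟨y₂, hwφ⟩ : ∃ y₂, w *ᵥ φ = y₂ := ⟨_, rfl⟩
    have hy₂ : y₂ ∉ F ∙ E x₁ := hwφ ▸ hy₂'
    obtain ⟨s₀, hs₀, hs₀X⟩ := exists_TB (a := a) φ u huφ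
    have hyi : ∀ X, op y⁻¹ X = X - A X := fun X => by
      apply op_injective y
      rw [op_op_inv, hyA, map_sub, hAA, sub_zero]
      abel
    have hR : Rad M u ((LinearMap.id + E) ∘ₗ contr a φ ∘ₗ (LinearMap.id - A)) := by
      refine ⟨fun x => ?_, y * s₀ * y⁻¹, M.mul_mem (M.mul_mem hyM (hN hs₀)) (M.inv_mem hyM), fun X => ?_⟩
      · simp [contr_apply, hAE, sub_mulVec, pure_mulVec, huφ]
      · rw [op_mul, op_mul, hyi, hs₀X, hyA, map_add, map_sub, hAA, hAE]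
        simp only [LinearMap.comp_apply, LinearMap.add_apply, LinearMap.sub_apply, LinearMap.id_apply,
          contr_apply, pure_add_left]
        abel
    obtain ⟨ψ, hψ⟩ : ∃ ψ : Fin b → F, ∀ X,
        ((LinearMap.id + E) ∘ₗ contr a φ ∘ₗ (LinearMap.id - A)) X = X *ᵥ ψ := by
      by_contra hns
      exact hno ⟨u, _, hu, hR, hns⟩
    have hψ' : ∀ X, (X - A X) *ᵥ φ + E ((X - A X) *ᵥ φ) = X *ᵥ ψ := hψ
    have huψ : u ⬝ᵥ ψ = 0 := by
      have := hψ' (vecMulVec x₁ u)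
      rw [hAE, sub_mulVec, pure_mulVec, pure_mulVec, pure_mulVec, huφ, zero_smul, zero_smul, sub_zero,
        map_zero, add_zero] at this
      exact (smul_eq_zero.1 this.symm).resolve_right fun e => hx₁ (by rw [e]; exact SA.zero_mem)
    have key : ∀ (x : Fin a → F) (c : Fin b → F),
        ∃ r : F, (c ⬝ᵥ φ) • x + (c ⬝ᵥ φ) • E x = (c ⬝ᵥ ψ) • x + r • (w *ᵥ ψ) := by
      intro x c
      obtain ⟨r, hr⟩ := hWψ ψ huψ _ (hAW (vecMulVec x c))
      refine ⟨r, ?_⟩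
      have := hψ' (vecMulVec x c + A (vecMulVec x c))
      rw [map_add A, hAA, add_zero, add_sub_cancel_right, pure_mulVec, map_smul, add_mulVec, pure_mulVec,
        hr] at this
      exact this
    have hEx : E x₁ ∈ SA := by
      show vecMulVec (E x₁) u ∈ W
      rw [← hAE]
      exact hAW _
    obtain ⟨x, hx⟩ : ∃ x : Fin a → F, ∀ (e r c d : F), d ≠ 0 → E x = e • E x₁ →
        d • x = r • (w *ᵥ ψ) - (c * e) • E x₁ → False := by
      by_cases hwS : w *ᵥ ψ ∈ SA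
      · refine ⟨x₁, fun e r c d hd _ h => hx₁ ?_⟩
        have hmem : d • x₁ ∈ SA := h ▸ SA.sub_mem (SA.smul_mem r hwS) (SA.smul_mem _ hEx)
        simpa [smul_smul, inv_mul_cancel₀ hd] using SA.smul_mem d⁻¹ hmem
      · refine ⟨E x₁, fun e r c d hd he1 h => ?_⟩
        have hEE : E (E x₁) = 0 := by
          show A (pl a u (E x₁)) *ᵥ φu = 0
          rw [hAonW _ hEx, zero_mulVec]
        rw [hEE] at he1
        have he0 : e = 0 := (smul_eq_zero.1 he1.symm).resolve_right he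
        rw [he0, mul_zero, zero_smul, sub_zero] at h
        have hr : r ≠ 0 := fun e => he ((smul_eq_zero.1 (h.trans (by rw [e, zero_smul]))).resolve_left hd)
        refine hwS ?_
        have hmem : r • (w *ᵥ ψ) ∈ SA := h ▸ SA.smul_mem d hEx
        simpa [smul_smul, inv_mul_cancel₀ hr] using SA.smul_mem r⁻¹ hmem
    have heq : φ = ψ := by
      refine dotProduct_eq _ _ fun c => ?_
      rw [dotProduct_comm φ c, dotProduct_comm ψ c]
      by_contra hne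
      obtain ⟨r, hr⟩ := key x c
      obtain ⟨e₁, -, he₁⟩ := hsplit x
      rw [he₁] at hr
      refine hx e₁ r (c ⬝ᵥ φ) (c ⬝ᵥ φ - c ⬝ᵥ ψ) (sub_ne_zero.2 hne) he₁ ?_
      linear_combination (norm := module) hr
    obtain ⟨c, hc⟩ := exists_dot_one (show φ ≠ 0 from fun e => hy₂ (by
      rw [← hwφ, e, mulVec_zero]; exact Submodule.zero_mem _))
    rw [dotProduct_comm] at hc
    obtain ⟨r, hr⟩ := key x₁ c
    rw [← heq, hc, one_smul, one_smul, hwφ, add_right_inj] at hr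
    have hr0 : r ≠ 0 := fun e => he (by rw [hr, e, zero_smul])
    exact hy₂ (Submodule.mem_span_singleton.2 ⟨r⁻¹, by rw [hr, smul_smul, inv_mul_cancel₀ hr0, one_smul]⟩)

/-- Two dimensions of a pure space inside an image give a radical element. -/
theorem hasRad_two {M : Subgroup (GL (Fin 3 × Fin 3) F)} (hN : tensorSL 3 3 F ≤ M) (h : HasInter M 2) :
    HasRad M := by
  obtain ⟨g, hg, v, u, hv, hu, hW, hk⟩ := h
  by_contra hno
  set W := wsub g v with hWdef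
  set T := W ⊓ LinearMap.range (pl 3 u) with hTdef
  have hTW : T ≤ W := inf_le_left
  have hne : T ≠ W := fun e => hW (Or.inl ⟨u, hu, Submodule.eq_of_le_of_finrank_eq (inf_eq_left.1 e)
    (by rw [hWdef, finrank_wsub g hv, finrank_range_pl hu])⟩)
  have hT2 : Module.finrank F T + 1 = 3 := by
    have := Submodule.finrank_lt_finrank_of_lt (lt_of_le_of_ne hTW hne)
    rw [hWdef, finrank_wsub g hv] at this
    omega
  obtain ⟨w, hw, hwu⟩ : ∃ w ∈ W, w ∉ LinearMap.range (pl 3 u) := by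
    by_contra hc
    push Not at hc
    exact hne (inf_eq_left.2 hc)
  have hinj : ∀ φ : Fin 3 → F, u ⬝ᵥ φ = 0 → w *ᵥ φ = 0 → φ = 0 := by
    intro φ huφ hwφ
    by_contra hφ
    have hspan : T ⊔ F ∙ w = W := Submodule.eq_of_le_of_finrank_eq
      (sup_le hTW (by rwa [Submodule.span_singleton_le_iff_mem]))
      (by rw [finrank_sup_line T fun h => hwu h.2, hT2, hWdef, finrank_wsub g hv])
    refine hno (hasRad_of_killed hN (by omega) hg (by omega) hv hφ (fun h => hW (Or.inl h)) fun X hX => ?_)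
    rw [← hWdef, ← hspan] at hX
    obtain ⟨_, ⟨-, z, rfl⟩, _, hZ, rfl⟩ := Submodule.mem_sup.1 hX
    obtain ⟨r, rfl⟩ := Submodule.mem_span_singleton.1 hZ
    rw [add_mulVec, smul_mulVec, hwφ, smul_zero, add_zero, pl_apply, pure_mulVec, huφ, zero_smul]
  refine hno (hasRad_hyperplane hN (by omega) le_rfl hg hv hu hT2 hw hwu hinj fun z => ?_)
  by_contra hc
  push Not at hc
  obtain ⟨φ₁, hφ₁, hφ₁0⟩ := exists_perp_ne ![u] (show 1 < 3 by omega)
  obtain ⟨φ₂, hφ₂, hφ₂n⟩ := exists_perp ![u] (F ∙ φ₁) (by rw [finrank_span_singleton hφ₁0]; omega)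
  have h1 : u ⬝ᵥ φ₁ = 0 := hφ₁ 0
  have h2 : u ⬝ᵥ φ₂ = 0 := hφ₂ 0
  obtain ⟨c₁, hc₁⟩ := Submodule.mem_span_singleton.1 (show w *ᵥ φ₁ ∈ F ∙ z by
    by_contra h; exact hc φ₁ h h1)
  obtain ⟨c₂, hc₂⟩ := Submodule.mem_span_singleton.1 (show w *ᵥ φ₂ ∈ F ∙ z by
    by_contra h; exact hc φ₂ h h2)
  have h := hinj (c₁ • φ₂ - c₂ • φ₁) (by simp [dotProduct_sub, dotProduct_smul, h1, h2])
    (by rw [mulVec_sub, mulVec_smul, mulVec_smul, ← hc₁, ← hc₂, smul_smul, smul_smul, mul_comm, sub_self])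
  by_cases e : c₁ = 0
  · rw [e, zero_smul] at hc₁
    exact hφ₁0 (hinj φ₁ h1 hc₁.symm)
  · exact hφ₂n (Submodule.mem_span_singleton.2 ⟨c₁⁻¹ * c₂, by
      rw [mul_smul, ← sub_eq_zero.1 h, smul_smul, inv_mul_cancel₀ e, one_smul]⟩)

end Cfsg.Agent.Lib.TensorSquare17
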