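import Cfsg.Agent.Lib.TensorSquare17.Zero
import Cfsg.Agent.Lib.TensorSquare17.One
import Cfsg.Agent.Lib.TensorSquare17.Two
import Cfsg.Agent.Lib.GeoTypesSL.Basic

/-!
The stabiliser of a tensor decomposition of two factors of dimension three is maximal in `SL`.
-/

set_option autoImplicit false
set_option linter.unusedSectionVars false

namespace Cfsg.Agent.Lib.TensorSquare17

open Matrix Cfsg.Agent.Lib Cfsg.Agent.Lib.TensorMax
open scoped Kronecker

variable {F : Type*} [Field F] {M : Subgroup (GL (Fin 3 × Fin 3) F)}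

/-- An element preserving neither the tensor decomposition nor its exchange gives a radical element. -/
theorem hasRad_of_not_square (hN : tensorSL 3 3 F ≤ M) {τ : GL (Fin 3 × Fin 3) F} (hτ : τ ∈ M)
    (hτX : ∀ X, op τ X = -Xᵀ) {g₀ : GL (Fin 3 × Fin 3) F} (hg₀ : g₀ ∈ M)
    (hk₁ : g₀ ∉ Cfsg.Geo.kroneckerSubgroup 3 3 F) (hk₂ : τ * g₀ ∉ Cfsg.Geo.kroneckerSubgroup 3 3 F) :
    HasRad M := by
  classical
  obtain ⟨v, hv, hW⟩ : ∃ v : Fin 3 → F, v ≠ 0 ∧ ¬ PureW (wsub g₀ v) := by
    obtain ⟨v, hv, hvR⟩ : ∃ v : Fin 3 → F, v ≠ 0 ∧ ¬ IsProd (wsub g₀ v) := by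
      by_contra hc
      push Not at hc
      exact hk₁ (mem_kron_of_prod (by omega) (by omega) g₀ hc)
    obtain ⟨v', hv', hvL⟩ : ∃ v' : Fin 3 → F, v' ≠ 0 ∧ ¬ IsProd ((wsub g₀ v').map trL) := by
      by_contra hc
      push Not at hc
      exact hk₂ (mem_kron_of_prod (by omega) (by omega) _ fun z hz => by
        rw [wsub_swap hτX]; exact hc z hz)
    by_contra hc
    push Not at hc
    obtain ⟨x, hx, hWx⟩ := (hc v hv).resolve_left hvR
    obtain ⟨u, hu, hWu⟩ := (hc v' hv').resolve_right hvL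
    have hWx' : wsub g₀ v = (LinearMap.range (pl 3 x)).map trL := by rw [← hWx, map_trL_trL]
    have hne : wsub g₀ v ≠ wsub g₀ v' := fun e => by
      have h1 := inf_kinds_le x u hu
      rw [← hWx', ← hWu, e, inf_idem, finrank_wsub g₀ hv'] at h1
      omega
    by_cases hsum : v + v' = 0
    · refine hne (le_antisymm ?_ ?_) <;>
      · rintro _ ⟨z, rfl⟩
        refine mem_wsub.2 ⟨-z, ?_⟩
        simp only [LinearMap.comp_apply, pl_apply, eq_neg_of_add_eq_zero_right hsum,
          pure_neg_left, map_neg, show ∀ (a b : Fin 3 → F), vecMulVec a (-b) = -vecMulVec a b from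
            fun a b => by ext i j; simp [vecMulVec_apply]]
        try rw [neg_neg]
    let A : Submodule F (Fin 3 → F) := (LinearMap.range (pl 3 u)).comap ((op g₀).comp (pl 3 v))
    let B : Submodule F (Fin 3 → F) :=
      ((LinearMap.range (pl 3 x)).map trL).comap ((op g₀).comp (pl 3 v'))
    obtain ⟨y, hyA, hyB⟩ : ∃ y, y ∉ A ∧ y ∉ B := by
      have hA : ∃ y, y ∉ A := by
        by_contra hc'
        push Not at hc'
        have h1 : wsub g₀ v ≤ LinearMap.range (pl 3 u) := by rintro _ ⟨z, rfl⟩; exact hc' z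
        have h2 := Submodule.finrank_mono (le_inf h1 hWx'.le)
        have h3 := inf_kinds_le x u hu
        rw [finrank_wsub g₀ hv] at h2
        omega
      have hB : ∃ y, y ∉ B := by
        by_contra hc'
        push Not at hc'
        have h1 : wsub g₀ v' ≤ (LinearMap.range (pl 3 x)).map trL := by rintro _ ⟨z, rfl⟩; exact hc' z
        have h2 := Submodule.finrank_mono (le_inf hWu.le h1)
        have h3 := inf_kinds_le x u hu
        rw [finrank_wsub g₀ hv'] at h2
        omega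
      obtain ⟨y₁, hy₁⟩ := hA
      obtain ⟨y₂, hy₂⟩ := hB
      by_cases h1 : y₁ ∈ B
      · by_cases h2 : y₂ ∈ A
        · exact ⟨y₁ + y₂, fun h => hy₁ ((A.add_mem_iff_left h2).1 h),
            fun h => hy₂ ((B.add_mem_iff_right h1).1 h)⟩
        · exact ⟨y₂, h2, hy₂⟩
      · exact ⟨y₁, hy₁, h1⟩
    obtain ⟨_, ⟨b, rfl⟩, hb⟩ := hWx' ▸ (mem_wsub.2 ⟨y, rfl⟩ : op g₀ (vecMulVec y v) ∈ wsub g₀ v)
    obtain ⟨a, ha⟩ := hWu ▸ (mem_wsub.2 ⟨y, rfl⟩ : op g₀ (vecMulVec y v') ∈ wsub g₀ v')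
    rw [pl_apply, trL_pure] at hb
    rw [pl_apply] at ha
    have hbu : b ∉ F ∙ u := fun h => hyA (by
      obtain ⟨r, rfl⟩ := Submodule.mem_span_singleton.1 h
      exact ⟨r • x, by
        rw [LinearMap.comp_apply, pl_apply, pl_apply, ← hb, pure_smul_left, pure_smul_right]⟩)
    have hax : a ∉ F ∙ x := fun h => hyB (by
      obtain ⟨r, rfl⟩ := Submodule.mem_span_singleton.1 h
      refine ⟨_, ⟨r • u, rfl⟩, ?_⟩
      rw [LinearMap.comp_apply, pl_apply, pl_apply, ← ha, trL_pure, pure_smul_left, pure_smul_right])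
    obtain ⟨φ, hφu, hφb⟩ := exists_sep hbu
    obtain ⟨ξ, hξx, hξa⟩ := exists_sep hax
    obtain ⟨x', u', h⟩ := (hc _ hsum).exists_pure (mem_wsub.2 ⟨y, rfl⟩ :
      op g₀ (vecMulVec y (v + v')) ∈ wsub g₀ (v + v'))
    rw [pure_add_right, map_add, ← hb, ← ha] at h
    have h1 := congrArg (fun Z => Z *ᵥ φ) h
    simp only [add_mulVec, pure_mulVec, hφb, hφu u (Submodule.mem_span_singleton_self u), one_smul,
      zero_smul, add_zero] at h1
    have h2 := congrArg (fun Z => ξ ᵥ* Z) h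
    simp only [vecMul_add, vecMul_pure, dotProduct_comm ξ, hξa, hξx x (Submodule.mem_span_singleton_self x),
      one_smul, zero_smul, zero_add] at h2
    have h3 := hξx x (Submodule.mem_span_singleton_self x)
    rw [h1, smul_dotProduct, smul_eq_mul, mul_eq_zero] at h3
    rcases h3 with h3 | h3
    · exact hx (by rw [h1, h3, zero_smul])
    · exact hu (by rw [h2, h3, zero_smul])
  by_cases h2 : HasInter M 2
  · exact hasRad_two hN h2
  by_cases h1 : HasInter M 1
  · obtain ⟨g, hg, v, u, hv, hu, hW, hk⟩ := h1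
    obtain ⟨X, hX, hX0⟩ := Submodule.exists_mem_ne_zero_of_ne_bot
      (p := wsub g v ⊓ LinearMap.range (pl 3 u)) fun e => by rw [e, finrank_bot] at hk; omega
    obtain ⟨x, rfl⟩ := hX.2
    refine hasRad_one hN hτ hτX (fun k' hk' h => h2 ?_) hg hv (fun e => hX0 (by rw [e, map_zero])) hu hW hX.1
    obtain ⟨g', hg', v', u', hv', hu', hW', hk''⟩ := h
    exact ⟨g', hg', v', u', hv', hu', hW', le_trans hk' hk''⟩
  exact hasRad_zero hN hτ hτX h1 hg₀ hv hW

/-- Pairs and functions on two points. -/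
def pairEquiv : (Fin 2 → Fin 3) ≃ Fin 3 × Fin 3 := piFinTwoEquiv fun _ => Fin 3

/-- The wreath product on pairs. -/
def squareGroup (F : Type*) [Field F] : Subgroup (GL (Fin 3 × Fin 3) F) :=
  (Cfsg.Geo.tensorWreathStandard 3 2 F).map (Cfsg.Geo.glReindex pairEquiv).toMonoidHom

theorem kron_le_square : Cfsg.Geo.kroneckerSubgroup 3 3 F ≤ squareGroup F := by
  rintro g ⟨A, B, hg⟩
  refine ⟨Cfsg.Geo.glReindex pairEquiv.symm g, Subgroup.subset_closure (Or.inl ⟨![A, B], fun i j => ?_⟩), ?_⟩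
  · rw [Fin.prod_univ_two]
    show Matrix.reindexAlgEquiv F F pairEquiv.symm (g : Matrix (Fin 3 × Fin 3) (Fin 3 × Fin 3) F) i j = _
    rw [Matrix.coe_reindexAlgEquiv, Matrix.reindex_apply, hg]
    rfl
  · refine Units.ext ?_
    show Matrix.reindexAlgEquiv F F pairEquiv (Matrix.reindexAlgEquiv F F pairEquiv.symm
      (g : Matrix (Fin 3 × Fin 3) (Fin 3 × Fin 3) F)) = _
    ext i j
    simp [Matrix.coe_reindexAlgEquiv]

theorem exists_swap : ∃ τ ∈ squareGroup F ⊓ Cfsg.Geo.specialLinear (Fin 3 × Fin 3) F,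
    ∀ X, op τ X = -Xᵀ := by
  classical
  let σ : Equiv.Perm (Fin 3 × Fin 3) := Equiv.prodComm (Fin 3) (Fin 3)
  have hσ : Equiv.Perm.sign σ = -1 := by decide
  have hdet : Matrix.det (σ.permMatrix F) = -1 := by rw [Matrix.det_permutation, hσ]; simp
  let τ₀ : GL (Fin 3 × Fin 3) F :=
    GeneralLinearGroup.mkOfDetNeZero (σ.permMatrix F) (by rw [hdet]; exact neg_ne_zero.2 one_ne_zero)
  let z : GL (Fin 3 × Fin 3) F := -1
  have hz : z ∈ Cfsg.Geo.kroneckerSubgroup 3 3 F :=
    ⟨-1, 1, by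
      show (-1 : Matrix (Fin 3 × Fin 3) (Fin 3 × Fin 3) F) = (-1 : Matrix (Fin 3) (Fin 3) F) ⊗ₖ 1
      ext ⟨i, k⟩ ⟨j, l⟩
      by_cases h1 : i = j <;> by_cases h2 : k = l <;>
        simp [Matrix.neg_apply, Matrix.one_apply, kroneckerMap_apply, h1, h2]⟩
  have hτ₀ : τ₀ ∈ squareGroup F := by
    refine ⟨Cfsg.Geo.glReindex pairEquiv.symm τ₀, Subgroup.subset_closure
      (Or.inr ⟨Equiv.swap 0 1, fun i j => ?_⟩), ?_⟩
    · show (σ.permMatrix F) (pairEquiv i) (pairEquiv j) = _
      have : pairEquiv j = σ (pairEquiv i) ↔ j = i ∘ Equiv.swap 0 1 := by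
        constructor
        · intro h
          obtain ⟨h1, h2⟩ := Prod.ext_iff.1 h
          funext k
          fin_cases k
          · exact h1
          · exact h2
        · rintro rfl
          rfl
      simp [Equiv.Perm.permMatrix, PEquiv.toMatrix_apply, eq_comm (a := σ (pairEquiv i)), this]
    · refine Units.ext ?_
      show Matrix.reindexAlgEquiv F F pairEquiv (Matrix.reindexAlgEquiv F F pairEquiv.symm
        (τ₀ : Matrix (Fin 3 × Fin 3) (Fin 3 × Fin 3) F)) = _
      ext i j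
      simp [Matrix.coe_reindexAlgEquiv]
  refine ⟨z * τ₀, ⟨Subgroup.mul_mem _ (kron_le_square hz) hτ₀, ?_⟩, fun X => ?_⟩
  · show Matrix.GeneralLinearGroup.det (z * τ₀) = 1
    refine Units.ext ?_
    rw [GeneralLinearGroup.val_det_apply, Units.val_mul, Units.val_one]
    rw [show (z : Matrix (Fin 3 × Fin 3) (Fin 3 × Fin 3) F) = -1 from by rw [Units.val_neg, Units.val_one],
      show (τ₀ : Matrix (Fin 3 × Fin 3) (Fin 3 × Fin 3) F) = σ.permMatrix F from rfl]
    rw [Matrix.det_mul, Matrix.det_neg, Matrix.det_one, hdet]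
    norm_num [Fintype.card_prod, Fintype.card_fin]
  · ext i j
    show (((-1 : Matrix (Fin 3 × Fin 3) (Fin 3 × Fin 3) F) * σ.permMatrix F) *ᵥ fun p => X p.1 p.2) (i, j) = _
    rw [Matrix.neg_mul, Matrix.one_mul, Matrix.neg_mulVec, Pi.neg_apply, Matrix.permMatrix_mulVec]
    rfl

/-- The wreath product preserves tensors of rank at most one. -/
theorem square_pure [Finite F] {g : GL (Fin 3 × Fin 3) F} (hg : g ∈ squareGroup F) (x v : Fin 3 → F) :
    ∃ x' v', op g (vecMulVec x v) = vecMulVec x' v' := by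
  obtain ⟨R, hR, rfl⟩ := hg
  haveI : Finite (GL (Fin 2 → Fin 3) F) := inferInstance
  have hR' : R ∈ Submonoid.closure {g : GL (Fin 2 → Fin 3) F |
      Cfsg.Geo.IsPureTensor 3 2 g ∨ Cfsg.Geo.IsFactorPermutation 3 2 g} := by
    rw [← Subgroup.closure_toSubmonoid_of_finite]
    exact hR
  clear hR
  induction hR' using Submonoid.closure_induction generalizing x v with
  | mem R hR =>
    rcases hR with ⟨gs, hgs⟩ | ⟨π, hπ⟩
    · refine ⟨(gs 0 : Matrix (Fin 3) (Fin 3) F) *ᵥ x, (gs 1 : Matrix (Fin 3) (Fin 3) F) *ᵥ v, ?_⟩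
      rw [op_kron (A := (gs 0 : Matrix (Fin 3) (Fin 3) F)) (B := (gs 1 : Matrix (Fin 3) (Fin 3) F)) ?_,
        mul_vecMulVec, vecMulVec_mul, vecMul_transpose]
      show Matrix.reindexAlgEquiv F F pairEquiv (R : Matrix (Fin 2 → Fin 3) (Fin 2 → Fin 3) F) = _
      ext i j
      simp only [Matrix.coe_reindexAlgEquiv, Matrix.reindex_apply, Matrix.submatrix_apply, hgs,
        Fin.prod_univ_two]
      rfl
    · obtain rfl | rfl := (by decide : ∀ π : Equiv.Perm (Fin 2), π = 1 ∨ π = Equiv.swap 0 1) π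
      · refine ⟨x, v, ?_⟩
        have : R = 1 := by
          refine Units.ext (Matrix.ext fun i j => ?_)
          rw [hπ]
          simp [Matrix.one_apply, eq_comm]
        rw [this, map_one, op_one]
      · refine ⟨v, x, ?_⟩
        ext i j
        show (Matrix.reindexAlgEquiv F F pairEquiv (R : Matrix (Fin 2 → Fin 3) (Fin 2 → Fin 3) F) *ᵥ
          fun p => vecMulVec x v p.1 p.2) (i, j) = _
        rw [Matrix.coe_reindexAlgEquiv, Matrix.reindex_apply, Matrix.submatrix_mulVec_equiv]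
        simp only [Function.comp_apply, mulVec, dotProduct, hπ, ite_mul, one_mul, zero_mul,
          Finset.sum_ite_eq', Finset.mem_univ, if_true]
        show x j * v i = v i * x j
        ring
  | one => exact ⟨x, v, by rw [map_one, op_one]⟩
  | mul R S _ _ hR hS =>
    obtain ⟨x', v', h⟩ := hS x v
    obtain ⟨x'', v'', h'⟩ := hR x' v'
    exact ⟨x'', v'', by rw [map_mul, op_mul, h, h']⟩

/-- The wreath product is maximal. -/
theorem isMaximalIn_square [Finite F] :
    Cfsg.Geo.IsMaximalIn (Cfsg.Geo.specialLinear (Fin 3 × Fin 3) F)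
      (squareGroup F ⊓ Cfsg.Geo.specialLinear (Fin 3 × Fin 3) F) := by
  classical
  refine ⟨lt_of_le_of_ne inf_le_right fun he => ?_, fun M hNM hMS => ?_⟩
  · have hd : (Pi.single ((1 : Fin 3), (1 : Fin 3)) (1 : F) : Fin 3 × Fin 3 → F) ⬝ᵥ
        Pi.single ((0 : Fin 3), (0 : Fin 3)) 1 = 0 := by
      rw [single_dotProduct, Pi.single_eq_of_ne (by decide), mul_zero]
    have hm : FormMax.Tr (Pi.single ((0 : Fin 3), (0 : Fin 3)) 1) (Pi.single ((1 : Fin 3), (1 : Fin 3)) 1) hd ∈
        squareGroup F ⊓ Cfsg.Geo.specialLinear (Fin 3 × Fin 3) F := (le_of_eq he.symm) (FormMax.Tr_mem_SL _ _ hd)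
    obtain ⟨x', v', h⟩ := square_pure hm.1 (Pi.single 1 1) (Pi.single 1 1)
    have hv : (fun p : Fin 3 × Fin 3 => vecMulVec (Pi.single 1 (1 : F) : Fin 3 → F) (Pi.single 1 1) p.1 p.2) =
        Pi.single (1, 1) 1 := by
      funext ⟨i, j⟩
      fin_cases i <;> fin_cases j <;> simp [vecMulVec_apply, Pi.single_apply]
    have e : ∀ i j : Fin 3, x' i * v' j =
        (Pi.single (1, 1) 1 : Fin 3 × Fin 3 → F) (i, j) + (Pi.single (0, 0) 1 : Fin 3 × Fin 3 → F) (i, j) := by
      intro i j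
      have := congrFun (congrFun h i) j
      rw [vecMulVec_apply] at this
      rw [← this]
      simp only [op, LinearMap.coe_mk, AddHom.coe_mk, Matrix.of_apply]
      rw [hv, FormMax.Tr_mulVec, single_dotProduct, Pi.single_eq_same, one_mul, one_smul]
      rfl
    have e00 := e 0 0
    have e11 := e 1 1
    have e01 := e 0 1
    simp [Pi.single_apply] at e00 e11 e01
    rcases e01 with h0 | h0
    · rw [h0, zero_mul] at e00; exact zero_ne_one e00
    · rw [h0, mul_zero] at e11; exact zero_ne_one e11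
  have hN : tensorSL 3 3 F ≤ M := fun g hg => hNM ⟨kron_le_square hg.1, hg.2⟩
  obtain ⟨τ, hτ, hτX⟩ := exists_swap (F := F)
  by_cases hsq : M ≤ squareGroup F
  · exact Or.inl (le_antisymm (le_inf hsq hMS) hNM)
  obtain ⟨g, hg, hgS⟩ := SetLike.not_le_iff_exists.1 hsq
  obtain ⟨u, γ, hu, hR, hns⟩ := hasRad_of_not_square hN (hNM hτ) hτX hg (fun h => hgS (kron_le_square h))
    (fun h => hgS ((Subgroup.mul_mem_cancel_left _ hτ.1).1 (kron_le_square h)))
  exact Or.inr (eq_SL_of_rad hN (by omega) le_rfl (Or.inl le_rfl) hMS hu hR hns)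

/-- The stabiliser of two equal factors of dimension three. -/
theorem isMaximalIn_tensorWreath [Fintype F] (e : Fin 9 ≃ (Fin 2 → Fin 3))
    (P : Matrix.GeneralLinearGroup (Fin 9) F) :
    Cfsg.Geo.IsMaximalIn (Cfsg.Geo.specialLinear (Fin 9) F)
      (Cfsg.Geo.tensorWreathSubgroup 3 2 e P ⊓ Cfsg.Geo.specialLinear (Fin 9) F) := by
  classical
  let Φ : GL (Fin 3 × Fin 3) F ≃* GL (Fin 9) F :=
    (Cfsg.Geo.glReindex (e.trans pairEquiv).symm).trans (MulAut.conj P)
  have hdet : ∀ x, Matrix.GeneralLinearGroup.det (Φ x) = Matrix.GeneralLinearGroup.det x := by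
    intro x
    show Matrix.GeneralLinearGroup.det (P * _ * P⁻¹) = _
    rw [map_mul, map_mul, map_inv, mul_right_comm, mul_inv_cancel, one_mul]
    refine Units.ext ?_
    rw [GeneralLinearGroup.val_det_apply, GeneralLinearGroup.val_det_apply]
    exact Matrix.det_reindexAlgEquiv F F _ _
  have hSL : (Cfsg.Geo.specialLinear (Fin 3 × Fin 3) F).map Φ.toMonoidHom =
      Cfsg.Geo.specialLinear (Fin 9) F := by
    ext g
    refine ⟨?_, fun hg => ⟨Φ.symm g, ?_, Φ.apply_symm_apply g⟩⟩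
    · rintro ⟨x, hx, rfl⟩
      show Matrix.GeneralLinearGroup.det (Φ x) = 1
      rw [hdet]
      exact hx
    · show Matrix.GeneralLinearGroup.det (Φ.symm g) = 1
      rw [← hdet, Φ.apply_symm_apply]
      exact hg
  have hK : (squareGroup F ⊓ Cfsg.Geo.specialLinear (Fin 3 × Fin 3) F).map Φ.toMonoidHom =
      Cfsg.Geo.tensorWreathSubgroup 3 2 e P ⊓ Cfsg.Geo.specialLinear (Fin 9) F := by
    rw [Subgroup.map_inf _ _ _ Φ.injective, hSL, Cfsg.Geo.tensorWreathSubgroup, squareGroup,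
      Subgroup.map_map, Subgroup.map_map]
    congr 2
    refine MonoidHom.ext fun x => ?_
    show P * _ * P⁻¹ = P * _ * P⁻¹
    congr 2
    refine Units.ext (Matrix.ext fun i j => ?_)
    show Matrix.reindexAlgEquiv F F (e.trans pairEquiv).symm (Matrix.reindexAlgEquiv F F pairEquiv _) i j = _
    simp [Matrix.coe_reindexAlgEquiv]
    rfl
  have h := GeoTypesSL.isMaximalIn_map Φ (isMaximalIn_square (F := F))
  rwa [hSL, hK] at h

end Cfsg.Agent.Lib.TensorSquare17
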