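import Cfsg.Agent.Lib.TensorMax.Main

/-!
Two equal tensor factors of dimension three: the intersections of images of spaces of pure tensors
with spaces of pure tensors.
-/

set_option autoImplicit false
set_option linter.unusedSectionVars false

namespace Cfsg.Agent.Lib.TensorSquare17

open Matrix Cfsg.Agent.Lib Cfsg.Agent.Lib.TensorMax

variable {F : Type*} [Field F]

/-- Transposition of square matrices. -/
def trL : Matrix (Fin 3) (Fin 3) F →ₗ[F] Matrix (Fin 3) (Fin 3) F where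
  toFun X := Xᵀ
  map_add' X Y := transpose_add X Y
  map_smul' c X := transpose_smul c X

theorem trL_apply (X : Matrix (Fin 3) (Fin 3) F) : trL X = Xᵀ := rfl

theorem trL_injective : Function.Injective (trL (F := F)) := fun _ _ h => transpose_injective h

theorem trL_pure (x v : Fin 3 → F) : trL (vecMulVec x v) = vecMulVec v x := transpose_vecMulVec x v

theorem trL_trL (X : Matrix (Fin 3) (Fin 3) F) : trL (trL X) = X := transpose_transpose X

theorem map_trL_trL (W : Submodule F (Matrix (Fin 3) (Fin 3) F)) : (W.map trL).map trL = W := by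
  rw [← Submodule.map_comp, show (trL (F := F)).comp trL = LinearMap.id from LinearMap.ext trL_trL,
    Submodule.map_id]

/-- One of the two kinds of spaces of pure tensors. -/
def PureW (W : Submodule F (Matrix (Fin 3) (Fin 3) F)) : Prop := IsProd W ∨ IsProd (W.map trL)

theorem pureW_map {W : Submodule F (Matrix (Fin 3) (Fin 3) F)} : PureW (W.map trL) ↔ PureW W := by
  unfold PureW
  rw [map_trL_trL]
  exact Or.comm

/-- A space of pure tensors consists of matrices of rank at most one. -/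
theorem PureW.exists_pure {W : Submodule F (Matrix (Fin 3) (Fin 3) F)} (h : PureW W)
    {X : Matrix (Fin 3) (Fin 3) F} (hX : X ∈ W) : ∃ x v : Fin 3 → F, X = vecMulVec x v := by
  rcases h with ⟨u, -, e⟩ | ⟨u, -, e⟩
  · rw [e] at hX
    obtain ⟨x, rfl⟩ := hX
    exact ⟨x, u, rfl⟩
  · have h1 : trL X ∈ LinearMap.range (pl 3 u) := e ▸ Submodule.mem_map_of_mem hX
    obtain ⟨x, hx⟩ := h1
    exact ⟨u, x, by rw [← trL_trL X, ← hx, pl_apply, trL_pure]⟩

/-- A rank one point of a pure space determines it up to the kind. -/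
theorem PureW.eq_or {W : Submodule F (Matrix (Fin 3) (Fin 3) F)} (h : PureW W) {x v : Fin 3 → F}
    (hx : x ≠ 0) (hv : v ≠ 0) (hP : vecMulVec x v ∈ W) :
    W = LinearMap.range (pl 3 v) ∨ W = (LinearMap.range (pl 3 x)).map trL := by
  rcases h with ⟨u, hu, e⟩ | ⟨u, hu, e⟩
  · refine Or.inl ?_
    rw [e]
    exact (range_pl_eq hv (fun e0 => hx (pl_injective hv (e0.trans (map_zero _).symm)))
      (e ▸ hP) ⟨x, rfl⟩).symm
  · refine Or.inr ?_
    have h1 : vecMulVec v x ∈ LinearMap.range (pl 3 u) := by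
      rw [← e, ← trL_pure]; exact Submodule.mem_map_of_mem hP
    rw [range_pl_eq hx (fun e0 => hv (pl_injective hx (e0.trans (map_zero _).symm))) h1 ⟨v, rfl⟩,
      ← e, map_trL_trL]

/-- A matrix whose row space and column space are lines through given vectors. -/
theorem inf_kinds_le (x v : Fin 3 → F) (hv : v ≠ 0) :
    Module.finrank F ↥(LinearMap.range (pl 3 v) ⊓ (LinearMap.range (pl 3 x)).map trL) ≤ 1 := by
  refine (Submodule.finrank_mono (show _ ≤ F ∙ vecMulVec x v from ?_)).trans (finrank_span_le_card _ |>.trans ?_)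
  · rintro X ⟨⟨a, rfl⟩, _, ⟨b, rfl⟩, hb⟩
    simp only [pl_apply, trL_pure] at hb ⊢
    obtain ⟨φ, hφ⟩ := exists_dot_one hv
    have := congrArg (fun Z => Z *ᵥ φ) hb
    simp only [pure_mulVec, hφ, one_smul] at this
    rw [← this, pure_smul_left]
    exact Submodule.smul_mem _ _ (Submodule.mem_span_singleton_self _)
  · simp

variable {M : Subgroup (GL (Fin 3 × Fin 3) F)}

/-- Some image of a space of pure tensors, not such a space itself, meets one in dimension at least
`k`. -/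
def HasInter (M : Subgroup (GL (Fin 3 × Fin 3) F)) (k : ℕ) : Prop :=
  ∃ g ∈ M, ∃ v u : Fin 3 → F, v ≠ 0 ∧ u ≠ 0 ∧ ¬ PureW (wsub g v) ∧
    k ≤ Module.finrank F ↥(wsub g v ⊓ LinearMap.range (pl 3 u))

section Swap

variable {τ : GL (Fin 3 × Fin 3) F} (hτX : ∀ X, op τ X = -Xᵀ)
include hτX

theorem wsub_swap (g : GL (Fin 3 × Fin 3) F) (v : Fin 3 → F) : wsub (τ * g) v = (wsub g v).map trL := by
  refine le_antisymm ?_ ?_
  · rintro _ ⟨x, rfl⟩
    refine ⟨op g (vecMulVec (-x) v), mem_wsub.2 ⟨_, rfl⟩, ?_⟩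
    show _ = op (τ * g) (vecMulVec x v)
    rw [op_mul, hτX, trL_apply, pure_neg_left, map_neg, transpose_neg]
  · rintro _ ⟨_, ⟨x, rfl⟩, rfl⟩
    refine mem_wsub.2 ⟨-x, ?_⟩
    rw [op_mul, hτX, pure_neg_left, map_neg, transpose_neg, neg_neg]
    rfl

theorem finrank_map_trL (W : Submodule F (Matrix (Fin 3) (Fin 3) F)) :
    Module.finrank F ↥(W.map trL) = Module.finrank F W :=
  ((Submodule.equivMapOfInjective _ trL_injective W).finrank_eq).symm

/-- An intersection with the other kind of pure space. -/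
theorem hasInter_of_left (hτ : τ ∈ M) {g : GL (Fin 3 × Fin 3) F} (hg : g ∈ M) {v x : Fin 3 → F}
    (hv : v ≠ 0) (hx : x ≠ 0) (hW : ¬ PureW (wsub g v)) {k : ℕ}
    (hk : k ≤ Module.finrank F ↥(wsub g v ⊓ (LinearMap.range (pl 3 x)).map trL)) : HasInter M k := by
  refine ⟨τ * g, M.mul_mem hτ hg, v, x, hv, hx, ?_, hk.trans (le_of_eq ?_)⟩
  · rw [wsub_swap hτX, pureW_map]; exact hW
  · rw [wsub_swap hτX, ← finrank_map_trL hτX (wsub g v ⊓ _), Submodule.map_inf _ trL_injective, map_trL_trL]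

end Swap

/-- An element fixing two dimensions of an image and moving the image. -/
theorem hasInter_of_fix {g h : GL (Fin 3 × Fin 3) F} (hg : g ∈ M) (hh : h ∈ M) {v : Fin 3 → F}
    (hv : v ≠ 0) {T : Submodule F (Matrix (Fin 3) (Fin 3) F)} (hT : T ≤ wsub g v)
    (hT0 : 2 ≤ Module.finrank F T) (hfix : ∀ X ∈ T, op h X = X)
    (hmove : ∃ X ∈ wsub g v, op h X ∉ wsub g v) : HasInter M (Module.finrank F T) := by
  set g' := g⁻¹ * h * g with hg'
  have hsub : T.map (op g⁻¹) ≤ wsub g' v ⊓ LinearMap.range (pl 3 v) := by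
    rintro _ ⟨X, hX, rfl⟩
    obtain ⟨x, hx⟩ := mem_wsub.1 (hT hX)
    have e : op g⁻¹ X = vecMulVec x v := by rw [← hx, op_inv_op]
    refine ⟨?_, x, by rw [pl_apply, e]⟩
    refine mem_wsub.2 ⟨x, ?_⟩
    rw [hg', op_mul, op_mul, hx, hfix X hX]
  have hdim : Module.finrank F T ≤ Module.finrank F ↥(wsub g' v ⊓ LinearMap.range (pl 3 v)) :=
    le_of_eq_of_le (Submodule.equivMapOfInjective _ (op_injective g⁻¹) T).finrank_eq
      (Submodule.finrank_mono hsub)
  refine ⟨g', M.mul_mem (M.mul_mem (M.inv_mem hg) hh) hg, v, v, hv, hv, fun hp => ?_, hdim⟩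
  obtain ⟨X, hX, hX0⟩ := Submodule.exists_mem_ne_zero_of_ne_bot (p := T) fun e => by
    rw [e, finrank_bot] at hT0; omega
  obtain ⟨x, hx⟩ := mem_wsub.1 (hT hX)
  have hmem : vecMulVec x v ∈ wsub g' v := (hsub ⟨X, hX, by rw [← hx, op_inv_op]⟩).1
  have hx0 : x ≠ 0 := fun e => hX0 (by rw [← hx, e, pure_zero_left, map_zero])
  rcases hp.eq_or hx0 hv hmem with e | e
  · obtain ⟨Y, hY, hYn⟩ := hmove
    obtain ⟨y, hy⟩ := mem_wsub.1 hY
    obtain ⟨z, hz⟩ : op g' (vecMulVec y v) ∈ LinearMap.range (pl 3 v) := by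
      rw [← e]; exact mem_wsub.2 ⟨y, rfl⟩
    refine hYn (mem_wsub.2 ⟨z, ?_⟩)
    rw [← pl_apply, hz, hg', op_mul, op_mul, hy, op_op_inv]
  · have := inf_kinds_le x v hv
    rw [e, inf_comm] at hdim
    omega

section Kill

variable (hN : tensorSL 3 3 F ≤ M) {τ : GL (Fin 3 × Fin 3) F} (hτ : τ ∈ M)
  (hτX : ∀ X, op τ X = -Xᵀ)
include hN hτ hτX

/-- Above the largest intersection no two dimensions of an image are killed together. -/
theorem hasRad_of_kill {k : ℕ} (hmax : ∀ k', k < k' → ¬ HasInter M k')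
    {g : GL (Fin 3 × Fin 3) F} (hg : g ∈ M) {v φ : Fin 3 → F} (hv : v ≠ 0) (hφ : φ ≠ 0)
    (hW : ¬ PureW (wsub g v)) {T : Submodule F (Matrix (Fin 3) (Fin 3) F)} (hT : T ≤ wsub g v)
    (hT2 : 2 ≤ Module.finrank F T) (hTk : k < Module.finrank F T) (hTφ : ∀ X ∈ T, X *ᵥ φ = 0) :
    HasRad M := by
  refine hasRad_of_killed hN (by omega) hg (by omega) hv hφ (fun h => hW (Or.inl h)) ?_
  by_cases hTW : T = wsub g v
  · exact fun X hX => hTφ X (hTW ▸ hX)
  have hT3 : Module.finrank F T < 3 := by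
    have := Submodule.finrank_lt_finrank_of_lt (lt_of_le_of_ne hT hTW)
    rwa [finrank_wsub g hv] at this
  intro X hX
  by_contra hm
  set m := X *ᵥ φ with hmdef
  obtain ⟨η, hη⟩ := exists_dot_one hm
  have hmem : ∀ v' : Fin 3 → F, v' ⬝ᵥ φ = 0 → vecMulVec m v' ∈ wsub g v := by
    intro v' hv'
    obtain ⟨t, ht, htX⟩ := exists_TB (a := 3) φ v' hv'
    by_contra hn
    refine hmax _ hTk (hasInter_of_fix hg (hN ht) hv hT hT2
      (fun Y hY => by rw [htX, hTφ Y hY, pure_zero_left, add_zero]) ⟨X, hX, ?_⟩)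
    rw [htX]
    exact fun h => hn (((wsub g v).add_mem_iff_right hX).1 h)
  let H : Submodule F (Fin 3 → F) := LinearMap.ker (dots ![φ])
  have hH : 2 ≤ Module.finrank F H := by
    have h1 := (dots (F := F) ![φ]).finrank_range_add_finrank_ker
    have h2 := Submodule.finrank_le (LinearMap.range (dots (F := F) ![φ]))
    rw [Module.finrank_fin_fun] at h1 h2
    have : Module.finrank F H = Module.finrank F (LinearMap.ker (dots (F := F) ![φ])) := rfl
    omega
  have hle : (H.map (pl 3 m)).map trL ≤ wsub g v ⊓ (LinearMap.range (pl 3 m)).map trL := by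
    rintro _ ⟨_, ⟨w, hw, rfl⟩, rfl⟩
    refine ⟨?_, Submodule.mem_map_of_mem ⟨w, rfl⟩⟩
    rw [pl_apply, trL_pure]
    exact hmem w ((dotProduct_comm _ φ).trans (congrFun hw 0))
  refine hmax 2 (by omega) (hasInter_of_left hτX hτ hg hv hm hW ?_)
  refine le_trans ?_ (Submodule.finrank_mono hle)
  rw [finrank_map_trL hτX, ← (Submodule.equivMapOfInjective _ (pl_injective hm) H).finrank_eq]
  exact hH

/-- The same for covectors acting on the left. -/
theorem hasRad_of_killL {k : ℕ} (hmax : ∀ k', k < k' → ¬ HasInter M k')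
    {g : GL (Fin 3 × Fin 3) F} (hg : g ∈ M) {v ξ : Fin 3 → F} (hv : v ≠ 0) (hξ : ξ ≠ 0)
    (hW : ¬ PureW (wsub g v)) {T : Submodule F (Matrix (Fin 3) (Fin 3) F)} (hT : T ≤ wsub g v)
    (hT2 : 2 ≤ Module.finrank F T) (hTk : k < Module.finrank F T) (hTξ : ∀ X ∈ T, ξ ᵥ* X = 0) :
    HasRad M := by
  refine hasRad_of_kill hN hτ hτX hmax (M.mul_mem hτ hg) hv hξ ?_ (T := T.map trL) ?_ ?_ ?_ ?_
  · rw [wsub_swap hτX, pureW_map]; exact hW
  · rw [wsub_swap hτX]; exact Submodule.map_mono hT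
  · rwa [finrank_map_trL hτX]
  · rwa [finrank_map_trL hτX]
  · rintro _ ⟨X, hX, rfl⟩
    rw [trL_apply, mulVec_transpose, hTξ X hX]

end Kill

end Cfsg.Agent.Lib.TensorSquare17
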