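import Cfsg.Agent.Lib.TensorSquare17.Basic

/-!
An image of a space of pure tensors contains a tensor of rank one or gives a radical element.
-/

set_option autoImplicit false
set_option linter.unusedSectionVars false

namespace Cfsg.Agent.Lib.TensorSquare17

open Matrix Cfsg.Agent.Lib Cfsg.Agent.Lib.TensorMax

variable {F : Type*} [Field F] {M : Subgroup (GL (Fin 3 × Fin 3) F)}
  (hN : tensorSL 3 3 F ≤ M) {τ : GL (Fin 3 × Fin 3) F} (hτ : τ ∈ M)
  (hτX : ∀ X, op τ X = -Xᵀ) (h0 : ¬ HasInter M 1)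

section Choice

include hτ hτX h0

/-- Of two elements fixing a point of the image and their product one fixes the image. -/
theorem fix_choice {g : GL (Fin 3 × Fin 3) F} (hg : g ∈ M) {v x : Fin 3 → F} (hv : v ≠ 0) (hx : x ≠ 0)
    {s₁ s₂ : GL (Fin 3 × Fin 3) F} (hs₁ : s₁ ∈ M) (hs₂ : s₂ ∈ M)
    (hf₁ : op s₁ (op g (vecMulVec x v)) = op g (vecMulVec x v))
    (hf₂ : op s₂ (op g (vecMulVec x v)) = op g (vecMulVec x v)) :
    (∀ X ∈ wsub g v, op s₁ X ∈ wsub g v) ∨ (∀ X ∈ wsub g v, op s₂ X ∈ wsub g v) ∨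
      ∀ X ∈ wsub g v, op (s₂ * s₁) X ∈ wsub g v := by
  set R := LinearMap.range (pl 3 v) with hRdef
  set L := (LinearMap.range (pl 3 x)).map trL with hLdef
  have hP : vecMulVec x v ≠ 0 := fun e => hx (pl_injective hv (e.trans (map_zero (pl 3 v)).symm))
  have hxvR : vecMulVec x v ∈ R := ⟨x, rfl⟩
  have hxvL : vecMulVec x v ∈ L := ⟨_, ⟨v, rfl⟩, trL_pure v x⟩
  have key : ∀ s ∈ M, op s (op g (vecMulVec x v)) = op g (vecMulVec x v) →
      (R.map (op (g⁻¹ * s * g)) = R ∨ R.map (op (g⁻¹ * s * g)) = L) ∧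
      (L.map (op (g⁻¹ * s * g)) = R ∨ L.map (op (g⁻¹ * s * g)) = L) := by
    intro s hs hfs
    have hn : g⁻¹ * s * g ∈ M := M.mul_mem (M.mul_mem (M.inv_mem hg) hs) hg
    have hfix : op (g⁻¹ * s * g) (vecMulVec x v) = vecMulVec x v := by
      rw [op_mul, op_mul, hfs, op_inv_op]
    have pure_of : ∀ n' ∈ M, ∀ w : Fin 3 → F, w ≠ 0 → vecMulVec x v ∈ wsub n' w →
        wsub n' w = R ∨ wsub n' w = L := by
      intro n' hn' w hw hmem
      refine PureW.eq_or ?_ hx hv hmem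
      by_contra hnp
      refine h0 ⟨n', hn', w, v, hw, hv, hnp, ?_⟩
      refine le_of_eq_of_le (finrank_span_singleton hP).symm (Submodule.finrank_mono ?_)
      rw [Submodule.span_singleton_le_iff_mem]
      exact ⟨hmem, hxvR⟩
    refine ⟨?_, ?_⟩
    · rw [show R.map (op (g⁻¹ * s * g)) = wsub (g⁻¹ * s * g) v from (LinearMap.range_comp _ _).symm]
      exact pure_of _ hn v hv (mem_wsub.2 ⟨x, hfix⟩)
    · have hL : L.map (op (g⁻¹ * s * g)) = wsub (g⁻¹ * s * g * τ) x := by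
        refine le_antisymm ?_ ?_
        · rintro _ ⟨_, ⟨_, ⟨y, rfl⟩, rfl⟩, rfl⟩
          refine mem_wsub.2 ⟨-y, ?_⟩
          rw [op_mul, hτX, pure_neg_left, transpose_neg, neg_neg]
          rfl
        · rintro _ ⟨y, rfl⟩
          refine ⟨_, ⟨_, ⟨-y, rfl⟩, rfl⟩, ?_⟩
          show _ = op (g⁻¹ * s * g * τ) (vecMulVec y x)
          rw [op_mul _ τ, hτX, pl_apply, pure_neg_left, map_neg, trL_apply]
      rw [hL]
      refine pure_of _ (M.mul_mem hn hτ) x hx ?_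
      rw [← hL]
      exact ⟨_, hxvL, hfix⟩
  have conc : ∀ s : GL (Fin 3 × Fin 3) F, R.map (op (g⁻¹ * s * g)) = R →
      ∀ X ∈ wsub g v, op s X ∈ wsub g v := by
    intro s hs X hX
    obtain ⟨y, rfl⟩ := mem_wsub.1 hX
    have : op (g⁻¹ * s * g) (vecMulVec y v) ∈ R :=
      hs ▸ Submodule.mem_map_of_mem (show vecMulVec y v ∈ R from ⟨y, rfl⟩)
    obtain ⟨z, hz⟩ := this
    refine mem_wsub.2 ⟨z, ?_⟩
    rw [← pl_apply, hz, op_mul, op_mul, op_op_inv]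
  have hne : R ≠ L := by
    intro e
    have h1 := inf_kinds_le x v hv
    rw [← hLdef, ← hRdef, ← e, inf_idem, hRdef, finrank_range_pl hv] at h1
    omega
  rcases (key s₁ hs₁ hf₁).1 with h1 | h1
  · exact Or.inl (conc s₁ h1)
  rcases (key s₂ hs₂ hf₂).1 with h2 | h2
  · exact Or.inr (Or.inl (conc s₂ h2))
  refine Or.inr (Or.inr (conc (s₂ * s₁) ?_))
  rcases (key s₂ hs₂ hf₂).2 with h3 | h3
  · have : op (g⁻¹ * (s₂ * s₁) * g) = (op (g⁻¹ * s₂ * g)).comp (op (g⁻¹ * s₁ * g)) := by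
      refine LinearMap.ext fun X => ?_
      rw [LinearMap.comp_apply, ← op_mul]
      congr 1
      group
    rw [this, Submodule.map_comp, h1, h3]
  · exact absurd (Submodule.map_injective_of_injective (op_injective _) (h2.trans h3.symm)) hne

end Choice

include hN hτ hτX h0

/-- Without rank one points in the images there is a radical element. -/
theorem hasRad_zero {g : GL (Fin 3 × Fin 3) F} (hg : g ∈ M) {v : Fin 3 → F} (hv : v ≠ 0)
    (hW : ¬ PureW (wsub g v)) : HasRad M := by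
  classical
  set W := wsub g v with hWdef
  have hone : ∀ (x u : Fin 3 → F), vecMulVec x u ∈ W → u ≠ 0 → x = 0 := by
    intro x u hmem hu
    by_contra hx
    refine h0 ⟨g, hg, v, u, hv, hu, hW, ?_⟩
    refine le_of_eq_of_le (finrank_span_singleton (fun e : vecMulVec x u = 0 =>
      hx (pl_injective hu (e.trans (map_zero (pl 3 u)).symm)))).symm (Submodule.finrank_mono ?_)
    rw [Submodule.span_singleton_le_iff_mem]
    exact ⟨hmem, x, rfl⟩
  by_cases hsing : ∃ X ∈ W, X ≠ 0 ∧ ∃ φ : Fin 3 → F, φ ≠ 0 ∧ X *ᵥ φ = 0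
  · obtain ⟨X, hX, hX0, φ, hφ, hXφ⟩ := hsing
    obtain ⟨y, hy⟩ := mem_wsub.1 hX
    have hy0 : y ≠ 0 := fun e => hX0 (by rw [← hy, e, pure_zero_left, map_zero])
    obtain ⟨v₁, hv₁, hv₁0⟩ := exists_perp_ne ![φ] (show 1 < 3 by omega)
    obtain ⟨v₂, hv₂, hv₂n⟩ := exists_perp ![φ] (F ∙ v₁) (by rw [finrank_span_singleton hv₁0]; omega)
    have hd₁ : v₁ ⬝ᵥ φ = 0 := (dotProduct_comm _ _).trans (hv₁ 0)
    have hd₂ : v₂ ⬝ᵥ φ = 0 := (dotProduct_comm _ _).trans (hv₂ 0)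
    obtain ⟨t₁, ht₁, ht₁X⟩ := exists_TB (a := 3) φ v₁ hd₁
    obtain ⟨t₂, ht₂, ht₂X⟩ := exists_TB (a := 3) φ v₂ hd₂
    have hprod : ∀ Y, op (t₂ * t₁) Y = Y + vecMulVec (Y *ᵥ φ) (v₁ + v₂) := fun Y => by
      rw [op_mul, ht₁X, ht₂X, add_mulVec, pure_mulVec, hd₁, zero_smul, add_zero, pure_add_right, add_assoc]
    obtain ⟨v', hv'0, hv'W⟩ : ∃ v' : Fin 3 → F, v' ≠ 0 ∧ ∀ Y ∈ W, vecMulVec (Y *ᵥ φ) v' ∈ W := by
      have sub : ∀ {s : GL (Fin 3 × Fin 3) F} {v' : Fin 3 → F},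
          (∀ Y, op s Y = Y + vecMulVec (Y *ᵥ φ) v') → (∀ Y ∈ W, op s Y ∈ W) →
          ∀ Y ∈ W, vecMulVec (Y *ᵥ φ) v' ∈ W := fun hsX hsW Y hY => by
        have := hsW Y hY
        rw [hsX] at this
        exact (W.add_mem_iff_right hY).1 this
      rcases fix_choice hτ hτX h0 hg hv hy0 (hN ht₁) (hN ht₂)
        (by rw [hy, ht₁X, hXφ, pure_zero_left, add_zero]) (by rw [hy, ht₂X, hXφ, pure_zero_left, add_zero])
        with h | h | h
      · exact ⟨v₁, hv₁0, sub ht₁X h⟩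
      · exact ⟨v₂, fun e => hv₂n (by rw [e]; exact Submodule.zero_mem _), sub ht₂X h⟩
      · exact ⟨v₁ + v₂, fun e => hv₂n (by
          rw [eq_neg_of_add_eq_zero_right e]
          exact Submodule.neg_mem _ (Submodule.mem_span_singleton_self _)), sub hprod h⟩
    exact hasRad_of_killed hN (by omega) hg (by omega) hv hφ (fun h => hW (Or.inl h))
      fun Y hY => hone _ _ (hv'W Y hY) hv'0
  -- all non-zero members are invertible
  push Not at hsing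
  exfalso
  obtain ⟨Q, hQ, hQ0⟩ := Submodule.exists_mem_ne_zero_of_ne_bot (p := W) fun e => by
    have := finrank_wsub g hv; rw [← hWdef, e, finrank_bot] at this; omega
  have hinj : Function.Injective Q.mulVecLin := (injective_iff_map_eq_zero _).2 fun φ hφ => by
    by_contra h
    exact hsing Q hQ hQ0 φ h hφ
  have hsur : Function.Surjective Q.mulVecLin := LinearMap.injective_iff_surjective.1 hinj
  let e := LinearEquiv.ofBijective Q.mulVecLin ⟨hinj, hsur⟩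
  obtain ⟨y, hy⟩ := mem_wsub.1 hQ
  have hy0 : y ≠ 0 := fun e => hQ0 (by rw [← hy, e, pure_zero_left, map_zero])
  have heig : ∀ X ∈ W, ∀ φ : Fin 3 → F, ∃ c : F, X *ᵥ φ = c • (Q *ᵥ φ) := by
    intro X hX φ
    by_cases hφ : φ = 0
    · exact ⟨0, by simp [hφ]⟩
    obtain ⟨a, hadef⟩ : ∃ a, a = -(Q *ᵥ φ) := ⟨_, rfl⟩
    obtain ⟨ψ₁, hψ₁, hψ₁0⟩ := exists_perp_ne ![a] (show 1 < 3 by omega)
    obtain ⟨ψ₂, hψ₂, hψ₂n⟩ := exists_perp ![a] (F ∙ ψ₁) (by rw [finrank_span_singleton hψ₁0]; omega)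
    -- the element fixing `Q`
    have mk : ∀ ψ : Fin 3 → F, ψ ⬝ᵥ a = 0 → ∃ s ∈ M, op s Q = Q ∧
        ∀ Y, op s Y = (1 + vecMulVec a ψ) * Y * (1 + vecMulVec φ (ψ ᵥ* Q)) := by
      intro ψ hψ
      have hw : (ψ ᵥ* Q) ⬝ᵥ φ = 0 := by
        rw [← dotProduct_mulVec, show Q *ᵥ φ = -a by rw [hadef, neg_neg], dotProduct_neg, hψ, neg_zero]
      obtain ⟨t₁, ht₁, ht₁X⟩ := exists_TA (b := 3) a ψ hψ
      obtain ⟨t₂, ht₂, ht₂X⟩ := exists_TB (a := 3) φ (ψ ᵥ* Q) hw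
      have hform : ∀ Y, op (t₂ * t₁) Y = (1 + vecMulVec a ψ) * Y * (1 + vecMulVec φ (ψ ᵥ* Q)) := fun Y => by
        rw [op_mul, ht₁X, ht₂X, Matrix.mul_add, Matrix.mul_one, Matrix.add_mul, Matrix.one_mul,
          vecMulVec_mul, mul_vecMulVec]
      refine ⟨t₂ * t₁, M.mul_mem (hN ht₂) (hN ht₁), ?_, hform⟩
      rw [op_mul, ht₁X, ht₂X, add_mulVec, pure_mulVec, hw, zero_smul, add_zero,
        show Q *ᵥ φ = -a by rw [hadef, neg_neg], pure_neg_left, add_assoc, add_neg_cancel, add_zero]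
    have hd : ∀ {ψ : Fin 3 → F}, (∀ i, ![a] i ⬝ᵥ ψ = 0) → ψ ⬝ᵥ a = 0 := fun h =>
      (dotProduct_comm _ _).trans (h 0)
    obtain ⟨s₁, hs₁, hs₁Q, hs₁X⟩ := mk ψ₁ (hd hψ₁)
    obtain ⟨s₂, hs₂, hs₂Q, hs₂X⟩ := mk ψ₂ (hd hψ₂)
    obtain ⟨ψ, hψ, hψ0, hψW⟩ : ∃ ψ : Fin 3 → F, ψ ⬝ᵥ a = 0 ∧ ψ ≠ 0 ∧
        ∀ Y ∈ W, (1 + vecMulVec a ψ) * Y * (1 + vecMulVec φ (ψ ᵥ* Q)) ∈ W := by
      rcases fix_choice hτ hτX h0 hg hv hy0 hs₁ hs₂ (by rw [hy, hs₁Q]) (by rw [hy, hs₂Q]) with h | h | h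
      · exact ⟨ψ₁, hd hψ₁, hψ₁0, fun Y hY => hs₁X Y ▸ h Y hY⟩
      · exact ⟨ψ₂, hd hψ₂, fun e => hψ₂n (by rw [e]; exact Submodule.zero_mem _),
          fun Y hY => hs₂X Y ▸ h Y hY⟩
      · refine ⟨ψ₁ + ψ₂, by rw [add_dotProduct, hd hψ₁, hd hψ₂, add_zero], fun e => hψ₂n (by
          rw [eq_neg_of_add_eq_zero_right e]
          exact Submodule.neg_mem _ (Submodule.mem_span_singleton_self _)), fun Y hY => ?_⟩
        have := h Y hY
        rw [op_mul, hs₁X, hs₂X] at this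
        have hz : (ψ₁ ᵥ* Q) ⬝ᵥ φ = 0 := by
          rw [← dotProduct_mulVec, show Q *ᵥ φ = -a by rw [hadef, neg_neg], dotProduct_neg, hd hψ₁, neg_zero]
        have e1 : (1 + vecMulVec a ψ₂) * (1 + vecMulVec a ψ₁) = 1 + vecMulVec a (ψ₁ + ψ₂) := by
          rw [Matrix.mul_add, Matrix.mul_one, Matrix.add_mul, Matrix.one_mul, vecMulVec_mul_vecMulVec,
            hd hψ₂, zero_smul, pure_zero_right, add_zero, pure_add_right, add_comm (vecMulVec a ψ₁), add_assoc]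
        have e2 : (1 + vecMulVec φ (ψ₁ ᵥ* Q)) * (1 + vecMulVec φ (ψ₂ ᵥ* Q)) =
            1 + vecMulVec φ ((ψ₁ + ψ₂) ᵥ* Q) := by
          rw [Matrix.mul_add, Matrix.mul_one, Matrix.add_mul, Matrix.one_mul, vecMulVec_mul_vecMulVec,
            hz, zero_smul, pure_zero_right, add_zero, add_vecMul, pure_add_right, add_assoc]
        rw [← e1, ← e2]
        simpa only [Matrix.mul_assoc] using this
    set w := ψ ᵥ* Q with hwdef
    have hw0 : w ≠ 0 := fun h => hψ0 (dotProduct_eq _ _ fun z => by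
      obtain ⟨c, hc⟩ := hsur z
      rw [← hc, mulVecLin_apply, dotProduct_mulVec, ← hwdef, h, zero_dotProduct, zero_dotProduct])
    obtain ⟨η, hη⟩ := exists_dot_one hw0
    set D := vecMulVec a (ψ ᵥ* X) + vecMulVec (X *ᵥ φ + (ψ ⬝ᵥ X *ᵥ φ) • a) w with hDdef
    have hDW : D ∈ W := by
      have h := W.sub_mem (hψW X hX) hX
      convert h using 1
      rw [hDdef, Matrix.add_mul, Matrix.one_mul, vecMulVec_mul, Matrix.mul_add, Matrix.mul_one,
        mul_vecMulVec, add_mulVec, pure_mulVec, ← dotProduct_mulVec]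
      abel
    have hD : D = 0 := by
      by_contra hD0
      obtain ⟨φ', hφ', hφ'0⟩ := exists_perp_ne ![ψ ᵥ* X, w] (show 2 < 3 by omega)
      refine hsing D hDW hD0 φ' hφ'0 ?_
      rw [hDdef, add_mulVec, pure_mulVec, pure_mulVec,
        show (ψ ᵥ* X) ⬝ᵥ φ' = 0 from hφ' 0, show w ⬝ᵥ φ' = 0 from hφ' 1, zero_smul, zero_smul, add_zero]
    have h := congrArg (fun Z => Z *ᵥ η) hD
    simp only [hDdef, add_mulVec, pure_mulVec, hη, one_smul, zero_mulVec] at h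
    refine ⟨(ψ ᵥ* X) ⬝ᵥ η + ψ ⬝ᵥ X *ᵥ φ, ?_⟩
    rw [hadef] at h
    linear_combination (norm := module) h
  have hle : W ≤ F ∙ Q := by
    intro X hX
    obtain ⟨c, hc⟩ := exists_scalar_of_eigen (X.mulVecLin ∘ₗ e.symm.toLinearMap) fun z => by
      obtain ⟨d, hd⟩ := heig X hX (e.symm z)
      exact ⟨d, hd.trans (congrArg (d • ·) (e.apply_symm_apply z))⟩
    refine Submodule.mem_span_singleton.2 ⟨c, Matrix.ext_iff_mulVec.2 fun φ => ?_⟩
    have h := hc (e φ)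
    simp only [LinearMap.comp_apply, LinearEquiv.coe_coe, LinearEquiv.symm_apply_apply, mulVecLin_apply] at h
    rw [smul_mulVec, h]
    rfl
  have := Submodule.finrank_mono hle
  rw [finrank_span_singleton hQ0, hWdef, finrank_wsub g hv] at this
  omega

end Cfsg.Agent.Lib.TensorSquare17
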